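import Mathlib.RingTheory.Kaehler.Basic
import Mathlib.RingTheory.Flat.EquationalCriterion
import Mathlib.RingTheory.FiniteType
import Mathlib.RingTheory.Smooth.Basic
import Mathlib.RingTheory.FinitePresentation
import Groth.Prelude.Def_Smoothing

set_option linter.style.haveILetI false

/-!
# The differentials of an ind-smooth algebra are flat
-/

universe u

open KaehlerDifferential

namespace Groth.Agent.H24.KaehlerFlat

variable (k A : Type u) [CommRing k] [CommRing A] [Algebra k A]

/-- The map on formal sums induced by an algebra map. -/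
noncomputable def push {X : Type u} [CommRing X] [Algebra k X] (g : X →ₐ[k] A) :
    (X →₀ X) →+ (A →₀ A) :=
  (Finsupp.mapDomain.addMonoidHom g).comp (Finsupp.mapRange.addMonoidHom g.toRingHom.toAddMonoidHom)

variable {k A}

theorem push_single {X : Type u} [CommRing X] [Algebra k X] (g : X →ₐ[k] A) (x c : X) :
    push k A g (Finsupp.single x c) = Finsupp.single (g x) (g c) := by
  simp [push]

theorem push_smul {X : Type u} [CommRing X] [Algebra k X] (g : X →ₐ[k] A) (r : X) (z : X →₀ X) :
    push k A g (r • z) = g r • push k A g z := by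
  induction z using Finsupp.induction_linear with
  | zero => simp
  | add a b ha hb => rw [smul_add, map_add, map_add, ha, hb, smul_add]
  | single a b => rw [Finsupp.smul_single, push_single, push_single, Finsupp.smul_single, smul_eq_mul,
      map_mul, smul_eq_mul]

theorem push_injective {S : Subalgebra k A} : Function.Injective (push k A S.val) := by
  intro a b h
  have h' := Finsupp.mapDomain_injective Subtype.val_injective h
  exact Finsupp.mapRange_injective _ (map_zero _) Subtype.val_injective h'

theorem exists_lift_single (x c : A) (S : Subalgebra k A) (hx : x ∈ S) (hc : c ∈ S) :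
    push k A S.val (Finsupp.single ⟨x, hx⟩ ⟨c, hc⟩) = Finsupp.single x c := push_single _ _ _

theorem exists_fg_lift (z : A →₀ A) : ∃ S₀ : Subalgebra k A, S₀.FG ∧ ∀ S, S₀ ≤ S →
    ∃ z' : S →₀ S, push k A S.val z' = z := by
  induction z using Finsupp.induction_linear with
  | zero => exact ⟨⊥, Subalgebra.fg_bot, fun S _ => ⟨0, map_zero _⟩⟩
  | add a b ha hb =>
    obtain ⟨Sa, hSa, ha⟩ := ha
    obtain ⟨Sb, hSb, hb⟩ := hb
    refine ⟨Sa ⊔ Sb, hSa.sup hSb, fun S hS => ?_⟩
    obtain ⟨a', rfl⟩ := ha S (le_sup_left.trans hS)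
    obtain ⟨b', rfl⟩ := hb S (le_sup_right.trans hS)
    exact ⟨a' + b', map_add _ _ _⟩
  | single x c =>
    classical
    refine ⟨Algebra.adjoin k ({x, c} : Finset A), Subalgebra.fg_adjoin_finset _, fun S hS => ?_⟩
    exact ⟨_, exists_lift_single x c S (hS (Algebra.subset_adjoin (by simp)))
      (hS (Algebra.subset_adjoin (by simp)))⟩

theorem exists_fg_kerTotal (z : A →₀ A) (hz : z ∈ kerTotal k A) :
    ∃ S₀ : Subalgebra k A, S₀.FG ∧ ∀ S, S₀ ≤ S → ∃ z' ∈ kerTotal k S, push k A S.val z' = z := by
  classical
  unfold kerTotal at hz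
  induction hz using Submodule.span_induction with
  | mem z hz =>
    rcases hz with (⟨⟨x, y⟩, rfl⟩ | ⟨⟨x, y⟩, rfl⟩) | ⟨r, rfl⟩
    · refine ⟨Algebra.adjoin k ({x, y} : Finset A), Subalgebra.fg_adjoin_finset _, fun S hS => ?_⟩
      let x' : S := ⟨x, hS (Algebra.subset_adjoin (by simp))⟩
      let y' : S := ⟨y, hS (Algebra.subset_adjoin (by simp))⟩
      refine ⟨_, Submodule.subset_span (Or.inl <| Or.inl ⟨(x', y'), rfl⟩), ?_⟩
      simp [push_single, x', y']
    · refine ⟨Algebra.adjoin k ({x, y} : Finset A), Subalgebra.fg_adjoin_finset _, fun S hS => ?_⟩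
      let x' : S := ⟨x, hS (Algebra.subset_adjoin (by simp))⟩
      let y' : S := ⟨y, hS (Algebra.subset_adjoin (by simp))⟩
      refine ⟨_, Submodule.subset_span (Or.inl <| Or.inr ⟨(x', y'), rfl⟩), ?_⟩
      simp [push_single, x', y']
    · refine ⟨⊥, Subalgebra.fg_bot, fun S _ => ⟨_, Submodule.subset_span (Or.inr ⟨r, rfl⟩), ?_⟩⟩
      simp [push_single]
  | zero => exact ⟨⊥, Subalgebra.fg_bot, fun S _ => ⟨0, zero_mem _, map_zero _⟩⟩
  | add a b _ _ ha hb =>
    obtain ⟨Sa, hSa, ha⟩ := ha
    obtain ⟨Sb, hSb, hb⟩ := hb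
    refine ⟨Sa ⊔ Sb, hSa.sup hSb, fun S hS => ?_⟩
    obtain ⟨a', ha', rfl⟩ := ha S (le_sup_left.trans hS)
    obtain ⟨b', hb', rfl⟩ := hb S (le_sup_right.trans hS)
    exact ⟨a' + b', add_mem ha' hb', map_add _ _ _⟩
  | smul c a _ ha =>
    obtain ⟨Sa, hSa, ha⟩ := ha
    refine ⟨Sa ⊔ Algebra.adjoin k ({c} : Finset A), hSa.sup (Subalgebra.fg_adjoin_finset _),
      fun S hS => ?_⟩
    obtain ⟨a', ha', rfl⟩ := ha S (le_sup_left.trans hS)
    have hc : c ∈ S := hS ((le_sup_right : Algebra.adjoin k (({c} : Finset A) : Set A) ≤ _)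
      (Algebra.subset_adjoin (by simp)))
    exact ⟨(⟨c, hc⟩ : S) • a', Submodule.smul_mem _ _ ha', push_smul _ _ _⟩

/-- The differentials of an ind-smooth algebra over a Noetherian ring are flat. -/
theorem flat_of_indSmooth [IsNoetherianRing k] (h : _root_.Smoothing.IndSmooth k A) :
    Module.Flat A Ω[A⁄k] := by
  classical
  refine Module.Flat.of_forall_isTrivialRelation fun {l} {f} {x} hfx => ?_
  choose z hz using fun i => KaehlerDifferential.linearCombination_surjective k A (x i)
  choose Sz hSz hlift using fun i => exists_fg_lift (k := k) (z i)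
  have hker : ∑ i, f i • z i ∈ kerTotal k A := by
    rw [← kerTotal_eq, LinearMap.mem_ker, map_sum, ← hfx]
    exact Finset.sum_congr rfl fun i _ => by rw [map_smul, hz i]
  obtain ⟨Sk, hSk, hk⟩ := exists_fg_kerTotal _ hker
  let S : Subalgebra k A :=
    (Sk ⊔ Algebra.adjoin k ((Finset.univ.image f : Finset A) : Set A)) ⊔ Finset.univ.sup Sz
  have hSfg : S.FG := by
    refine (hSk.sup (Subalgebra.fg_adjoin_finset _)).sup ?_
    exact Finset.sup_induction Subalgebra.fg_bot (fun a ha b hb => ha.sup hb) fun i _ => hSz i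
  have hf : ∀ i, f i ∈ S := fun i =>
    (le_sup_left : _ ≤ S) ((le_sup_right : _ ≤ Sk ⊔ Algebra.adjoin k ((Finset.univ.image f : Finset A) : Set A))
      (Algebra.subset_adjoin (by simp)))
  choose z' hz' using fun i => hlift i S ((Finset.le_sup (Finset.mem_univ i)).trans le_sup_right)
  obtain ⟨w, hw, hwe⟩ := hk S (le_sup_left.trans le_sup_left)
  haveI : Algebra.FiniteType k S := ⟨(Subalgebra.fg_top S).2 hSfg⟩
  haveI : Algebra.FinitePresentation k S := Algebra.FinitePresentation.of_finiteType.1 inferInstance
  obtain ⟨B, _, _, hB, g, q, hgq⟩ := h S inferInstance S.val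
  -- the relation in the differentials of `S`
  have hS : ∑ i, (⟨f i, hf i⟩ : S) • Finsupp.linearCombination S (D k S) (z' i) = 0 := by
    have he : ∑ i, (⟨f i, hf i⟩ : S) • z' i = w := by
      apply push_injective (S := S)
      rw [hwe, map_sum]
      exact Finset.sum_congr rfl fun i _ => by rw [push_smul, hz' i]; rfl
    rw [← kerTotal_eq, LinearMap.mem_ker, ← he, map_sum] at hw
    simpa only [map_smul] using hw
  letI : Algebra S B := g.toRingHom.toAlgebra
  letI : Algebra B A := q.toRingHom.toAlgebra
  haveI : IsScalarTower k S B := IsScalarTower.of_algebraMap_eq fun c => (g.commutes c).symm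
  haveI : IsScalarTower k B A := IsScalarTower.of_algebraMap_eq fun c => (q.commutes c).symm
  haveI : IsScalarTower S B A := IsScalarTower.of_algebraMap_eq fun s => (AlgHom.congr_fun hgq s).symm
  haveI : Module.Flat B Ω[B⁄k] := inferInstance
  have hBrel : ∑ i, algebraMap S B ⟨f i, hf i⟩ •
      KaehlerDifferential.map k k S B (Finsupp.linearCombination S (D k S) (z' i)) = 0 := by
    have := congrArg (KaehlerDifferential.map k k S B) hS
    rw [map_zero, map_sum] at this
    simpa only [map_smul, algebraMap_smul] using this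
  obtain ⟨n, a, y, hy, ha⟩ := Module.Flat.isTrivialRelation_of_sum_smul_eq_zero hBrel
  simp only at hy ha
  refine ⟨n, fun i j => algebraMap B A (a i j), fun j => KaehlerDifferential.map k k B A (y j),
    fun i => ?_, fun j => ?_⟩
  · have hcomp : ∀ u : S →₀ S,
        KaehlerDifferential.map k k B A (KaehlerDifferential.map k k S B
          (Finsupp.linearCombination S (D k S) u)) =
          Finsupp.linearCombination A (D k A) (push k A S.val u) := by
      intro u
      induction u using Finsupp.induction_linear with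
      | zero => simp
      | add a b ha hb => simp only [map_add, ha, hb]
      | single a b =>
        simp only [Finsupp.linearCombination_single, map_smul, KaehlerDifferential.map_D, push_single]
        rw [← algebraMap_smul B b, map_smul, KaehlerDifferential.map_D,
          ← algebraMap_smul A (algebraMap S B b), ← IsScalarTower.algebraMap_apply,
          ← IsScalarTower.algebraMap_apply]
        rfl
    rw [← hz i, ← hz' i, ← hcomp, hy i, map_sum]
    exact Finset.sum_congr rfl fun j _ => by rw [map_smul, algebraMap_smul]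
  · have := congrArg (algebraMap B A) (ha j)
    rw [map_sum, map_zero] at this
    rw [← this]
    refine Finset.sum_congr rfl fun i _ => ?_
    rw [map_mul, ← IsScalarTower.algebraMap_apply]
    rfl

end Groth.Agent.H24.KaehlerFlat
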