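import Groth.Agent.Lib.PolLaw.FlatTensor
import Mathlib.LinearAlgebra.ExteriorPower.Basis
import Mathlib.LinearAlgebra.ExteriorPower.Basic

/-!
# Exterior powers of flat modules
-/

universe u

open scoped TensorProduct

namespace Groth.Agent.H24.KaehlerFlat

open Groth.Agent.Lib.PolLaw.FlatTensor

variable {A : Type u} [CommRing A] {d : ℕ} {M N : Type u} [AddCommGroup M] [Module A M]
  [AddCommGroup N] [Module A N]

variable (A d M) in
/-- The projection of the tensor power to the exterior power. -/
noncomputable def toExt : (⨂[A] _ : Fin d, M) →ₗ[A] ⋀[A]^d M :=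
  PiTensorProduct.lift (exteriorPower.ιMulti A d (M := M)).toMultilinearMap

theorem toExt_tprod (x : Fin d → M) :
    toExt A d M (PiTensorProduct.tprod A x) = exteriorPower.ιMulti A d x :=
  PiTensorProduct.lift.tprod x

theorem toExt_map (f : M →ₗ[A] N) (t : ⨂[A] _ : Fin d, M) :
    exteriorPower.map d f (toExt A d M t) = toExt A d N (tm f t) := by
  induction t using PiTensorProduct.induction_on with
  | smul_tprod a x =>
    simp only [map_smul, tm_tprod, toExt_tprod, exteriorPower.map_apply_ιMulti]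
    rfl
  | add x y hx hy => simp only [map_add, hx, hy]

variable (A d M) in
/-- The span of the pure tensors with a repeated entry. -/
def altSpan : Submodule A (⨂[A] _ : Fin d, M) :=
  Submodule.span A {z | ∃ x : Fin d → M, (∃ i j, i ≠ j ∧ x i = x j) ∧ z = PiTensorProduct.tprod A x}

theorem toExt_surjective : Function.Surjective (toExt A d M) := by
  rw [← LinearMap.range_eq_top, eq_top_iff, ← exteriorPower.ιMulti_span, Submodule.span_le]
  rintro _ ⟨x, rfl⟩
  exact ⟨_, toExt_tprod x⟩

theorem mem_altSpan {t : ⨂[A] _ : Fin d, M} (ht : toExt A d M t = 0) : t ∈ altSpan A d M := by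
  let mk := (altSpan A d M).mkQ
  let φ : M [⋀^Fin d]→ₗ[A] ((⨂[A] _ : Fin d, M) ⧸ altSpan A d M) :=
    { toMultilinearMap := mk.compMultilinearMap (PiTensorProduct.tprod A)
      map_eq_zero_of_eq' := fun x i j h hij =>
        (Submodule.Quotient.mk_eq_zero _).2 (Submodule.subset_span ⟨x, ⟨i, j, hij, h⟩, rfl⟩) }
  have h : (exteriorPower.alternatingMapLinearEquiv φ).comp (toExt A d M) = mk := by
    refine PiTensorProduct.ext (MultilinearMap.ext fun x => ?_)
    simp only [LinearMap.compMultilinearMap_apply, LinearMap.comp_apply, toExt_tprod,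
      exteriorPower.alternatingMapLinearEquiv_apply_ιMulti]
    rfl
  refine (Submodule.Quotient.mk_eq_zero _).1 ?_
  show mk t = 0
  rw [← h, LinearMap.comp_apply, ht, map_zero]

/-- The exterior powers of a flat module are flat. -/
theorem flat_exteriorPower [Module.Flat A M] : Module.Flat A (⋀[A]^d M) := by
  classical
  refine Module.Flat.of_forall_isTrivialRelation fun {l} {r} {w} hw => ?_
  choose y hy using fun i => toExt_surjective (A := A) (d := d) (M := M) (w i)
  obtain ⟨n, f₀, t, ht⟩ := exists_lift y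
  have hz : ∑ i, r i • y i ∈ altSpan A d M := mem_altSpan (by
    rw [map_sum, ← hw]
    exact Finset.sum_congr rfl fun i _ => by rw [map_smul, hy i])
  obtain ⟨T, hT, hmem⟩ := Submodule.mem_span_finite_of_mem_span hz
  choose x hxe hx using fun z : T => hT z.2
  let S : Finset M := Finset.univ.biUnion fun p : T => Finset.univ.image (x p)
  let E := Pi.basisFun A (Fin n ⊕ S)
  let F : (Fin n ⊕ S → A) →ₗ[A] M :=
    E.constr A (Sum.elim (fun i => f₀ (Pi.basisFun A (Fin n) i)) fun s => (s : M))
  let c := LinearEquiv.funCongrLeft A A ((Equiv.sumCongr (Equiv.refl (Fin n)) S.equivFin).trans finSumFinEquiv)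
  let G : (Fin (n + S.card) → A) →ₗ[A] M := F.comp c.toLinearMap
  let j₀ : (Fin n → A) →ₗ[A] (Fin (n + S.card) → A) :=
    c.symm.toLinearMap.comp ((Pi.basisFun A (Fin n)).constr A fun i => E (Sum.inl i))
  have hj₀ : G.comp j₀ = f₀ := (Pi.basisFun A (Fin n)).ext fun i => by
    simp only [G, j₀, LinearMap.comp_apply, LinearEquiv.coe_coe, LinearEquiv.apply_symm_apply,
      Module.Basis.constr_basis, F, Sum.elim_inl]
  have hxS : ∀ (p : T) k, x p k ∈ S := fun p k =>
    Finset.mem_biUnion.2 ⟨p, Finset.mem_univ _, Finset.mem_image_of_mem _ (Finset.mem_univ k)⟩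
  let x' : T → Fin d → (Fin (n + S.card) → A) := fun p k => c.symm (E (Sum.inr ⟨x p k, hxS p k⟩))
  have hx' : ∀ p k, G (x' p k) = x p k := fun p k => by
    simp only [G, x', LinearMap.comp_apply, LinearEquiv.coe_coe, LinearEquiv.apply_symm_apply, F,
      Module.Basis.constr_basis, Sum.elim_inr]
  obtain ⟨coef, hcoef⟩ := (Submodule.mem_span_finset).1 hmem
  let rel : ⨂[A] _ : Fin d, (Fin (n + S.card) → A) :=
    (∑ i, r i • tm j₀ (t i)) - ∑ p : T, coef p • PiTensorProduct.tprod A (x' p)
  have hrel : tm G rel = 0 := by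
    have h1 : ∀ i, tm G (tm j₀ (t i)) = y i := fun i => by rw [← tm_comp, hj₀, ht]
    have h2 : ∀ p, tm G (PiTensorProduct.tprod A (x' p)) = (p : ⨂[A] _ : Fin d, M) := fun p => by
      rw [tm_tprod, hx p]
      simp only [hx']
    simp only [rel, map_sub, map_sum, map_smul, h1, h2, sub_eq_zero]
    rw [← hcoef.2, Finset.sum_coe_sort T (fun p => coef p • p)]
  obtain ⟨m, g, f', hfg, hg⟩ := exists_kill G rel hrel
  let ω : Fin l → ⋀[A]^d (Fin m → A) := fun i => toExt A d _ (tm g (tm j₀ (t i)))
  have hω : ∑ i, r i • ω i = 0 := by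
    have h0 : ∀ p : T, toExt A d _ (tm g (PiTensorProduct.tprod A (x' p))) = 0 := fun p => by
      rw [tm_tprod, toExt_tprod]
      obtain ⟨i, j, hij, he⟩ := hxe p
      refine AlternatingMap.map_eq_zero_of_eq _ _ ?_ hij
      simp only [x']
      congr 5
    have h3 := congrArg (toExt A d _) hg
    simp only [rel, map_sub, map_sum, map_smul, h0, smul_zero, Finset.sum_const_zero, sub_zero,
      map_zero] at h3
    exact h3
  obtain ⟨k, a, v, hv, ha⟩ := Module.Flat.isTrivialRelation_of_sum_smul_eq_zero hω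
  refine ⟨k, a, fun j => exteriorPower.map d f' (v j), fun i => ?_, ha⟩
  have h4 : exteriorPower.map d f' (ω i) = w i := by
    rw [toExt_map, ← tm_comp, hfg, ← tm_comp, hj₀, ht, hy]
  rw [← h4, hv i, map_sum]
  exact Finset.sum_congr rfl fun j _ => map_smul _ _ _

end Groth.Agent.H24.KaehlerFlat
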