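import Groth.Agent.H24.KaehlerFlat.Colim
import Groth.Agent.H24.KaehlerFlat.ExtPow
import Groth.Agent.Lib.Smoothing.Popescu.Main
import Groth.Agent.H2.Rigid.GeomRegAlg
import Groth.Agent.Lib.Regular.Serre
import Mathlib.FieldTheory.Perfect
import Mathlib.Algebra.Algebra.ZMod
import Mathlib.RingTheory.Kaehler.Basic

/-!
# The absolute differentials of a regular ring of prime characteristic are flat
-/

universe u

open scoped TensorProduct
open KaehlerDifferential

set_option linter.style.haveILetI false

namespace Groth.Agent.H24.KaehlerFlat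

/-- A regular algebra over a perfect field is a regular homomorphism. -/
theorem isRegularHom_of_perfectField (k A : Type u) [Field k] [PerfectField k] [CommRing A]
    [Algebra k A] [IsRegularRing A] : CAlg.IsRegularHom k A := by
  refine ⟨inferInstance, fun P hP => ?_⟩
  have hbot : P = ⊥ := (Ideal.eq_bot_or_top P).resolve_right hP.ne_top
  have hsurj : Function.Surjective (algebraMap k P.ResidueField) := by
    subst hbot
    intro z
    obtain ⟨a, b, hb, rfl⟩ := IsFractionRing.div_surjective (k ⧸ (⊥ : Ideal k)) z
    obtain ⟨a, rfl⟩ := Ideal.Quotient.mk_surjective a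
    obtain ⟨b, rfl⟩ := Ideal.Quotient.mk_surjective b
    exact ⟨a / b, by
      rw [map_div₀, IsScalarTower.algebraMap_apply k (k ⧸ (⊥ : Ideal k)) (⊥ : Ideal k).ResidueField a,
        IsScalarTower.algebraMap_apply k (k ⧸ (⊥ : Ideal k)) (⊥ : Ideal k).ResidueField b]
      rfl⟩
  have hbij : Function.Bijective (Algebra.TensorProduct.includeRight : A →ₐ[k] P.Fiber A) := by
    let e := AlgEquiv.ofBijective (Algebra.ofId k P.ResidueField) ⟨RingHom.injective _, hsurj⟩
    let E : A ≃ₐ[k] P.Fiber A := (Algebra.TensorProduct.lid k A).symm.trans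
      (Algebra.TensorProduct.congr e AlgEquiv.refl)
    convert E.bijective using 1
    funext a
    simp [E, e]
  let f : A ≃+* P.Fiber A := RingEquiv.ofBijective
    (Algebra.TensorProduct.includeRight : A →ₐ[k] P.Fiber A).toRingHom hbij
  haveI : IsNoetherianRing (P.Fiber A) := isNoetherianRing_of_ringEquiv A f
  haveI : IsRegularRing (P.Fiber A) := IsRegularRing.of_ringEquiv f
  haveI : Module.Finite k P.ResidueField :=
    Module.Finite.of_surjective (Algebra.linearMap k P.ResidueField) hsurj
  haveI : PerfectField P.ResidueField := Algebra.IsAlgebraic.perfectField (K := k)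
  refine ⟨inferInstance, H2.Rigid.GeomRegAlg.geometricallyRegular_iff_piReg.2 fun K _ _ _ _ => ?_⟩
  have hK : Function.Bijective (algebraMap P.ResidueField K) :=
    IsPurelyInseparable.bijective_algebraMap_of_isSeparable _ _
  exact IsRegularRing.of_ringEquiv ((Algebra.TensorProduct.congr
    (AlgEquiv.ofBijective (Algebra.ofId P.ResidueField K) hK) AlgEquiv.refl).toRingEquiv.symm.trans
    (Algebra.TensorProduct.lid P.ResidueField (P.Fiber A)).toRingEquiv).symm

/-- Integral differentials agree with those over a ring that is a quotient of the integers. -/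
theorem nonempty_kaehler_equiv (k A : Type u) [CommRing k] [CommRing A] [Algebra k A]
    (hk : Function.Surjective (Int.castRingHom k)) :
    Nonempty (Ω[A⁄k] ≃ₗ[A] Ω[A⁄ℤ]) := by
  let d : Derivation k A Ω[A⁄ℤ] :=
    { toFun := D ℤ A
      map_add' := map_add _
      map_smul' := fun c a => by
        obtain ⟨n, rfl⟩ := hk c
        rw [RingHom.id_apply, show (Int.castRingHom k n : k) = (n : k) from rfl, Int.cast_smul_eq_zsmul,
          map_zsmul, Int.cast_smul_eq_zsmul]
      map_one_eq_zero' := (D ℤ A).map_one_eq_zero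
      leibniz' := (D ℤ A).leibniz }
  let g : Ω[A⁄k] →ₗ[A] Ω[A⁄ℤ] := d.liftKaehlerDifferential
  let h : Ω[A⁄ℤ] →ₗ[A] Ω[A⁄k] := KaehlerDifferential.map ℤ k A A
  refine ⟨LinearEquiv.ofLinearMap g h ?_ ?_⟩
  · refine Derivation.liftKaehlerDifferential_unique _ _ (Derivation.ext fun a => ?_)
    simp [g, h, KaehlerDifferential.map_D, d]
  · refine Derivation.liftKaehlerDifferential_unique _ _ (Derivation.ext fun a => ?_)
    simp [g, h, KaehlerDifferential.map_D, d]

/-- The absolute differentials of a regular ring of characteristic `p` are flat. -/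
theorem flat_kaehler_of_charP (p : ℕ) [Fact p.Prime] (A : Type u) [CommRing A] [IsRegularRing A]
    [CharP A p] : Module.Flat A Ω[A⁄ℤ] := by
  let k := ULift.{u} (ZMod p)
  letI : Field k := ULift.field
  haveI : PerfectField k := PerfectField.ofFinite
  letI : Algebra (ZMod p) A := ZMod.algebra A p
  letI : Algebra k A := ((algebraMap (ZMod p) A).comp ULift.ringEquiv.toRingHom).toAlgebra
  have hk : Function.Surjective (Int.castRingHom k) := fun c => by
    obtain ⟨n, hn⟩ := ZMod.intCast_surjective c.down
    exact ⟨n, ULift.ext _ _ ((ULift.down_intCast.{0, u} (R := ZMod p) n).trans hn)⟩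
  haveI := flat_of_indSmooth
    (Groth.Agent.Lib.Smoothing.Popescu.Main.indSmooth (isRegularHom_of_perfectField k A))
  obtain ⟨e⟩ := nonempty_kaehler_equiv k A hk
  exact Module.Flat.of_linearEquiv e.symm

end Groth.Agent.H24.KaehlerFlat
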