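import Mathlib.RingTheory.Regular.RegularSequence
import Mathlib.RingTheory.Flat.Basic

/-!
# Weakly regular sequences stay weakly regular after tensoring with a flat module
-/

universe u

open scoped TensorProduct
open RingTheory.Sequence

namespace Groth.Agent.H24.KaehlerFlat

variable {R : Type u} [CommRing R] (M : Type u) [AddCommGroup M] [Module R M] [Module.Flat R M]

theorem isWeaklyRegular_tensor : ∀ {rs : List R} {N : Type u} [AddCommGroup N] [Module R N],
    IsWeaklyRegular N rs → IsWeaklyRegular (M ⊗[R] N) rs := by
  intro rs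
  induction rs with
  | nil => intro N _ _ _; exact IsWeaklyRegular.nil R _
  | cons r rs ih =>
    intro N _ _ h
    rw [isWeaklyRegular_cons_iff] at h ⊢
    refine ⟨h.1.lTensor M, ?_⟩
    exact ((QuotSMulTop.tensorQuotSMulTopEquivQuotSMulTop r M N).isWeaklyRegular_congr rs).1 (ih h.2)

theorem isWeaklyRegular_of_flat {rs : List R} (h : IsWeaklyRegular R rs) : IsWeaklyRegular M rs :=
  ((TensorProduct.rid R M).isWeaklyRegular_congr rs).1 (isWeaklyRegular_tensor M h)

end Groth.Agent.H24.KaehlerFlat
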